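import Groth.Agent.L22.AffineDim
import Groth.Agent.L03.CartierEq
import Groth.Agent.L21.Smooth.EtaleRegular
import Groth.Agent.L01.Regular
import Mathlib.RingTheory.Smooth.StandardSmoothOfFree

/-!
Coordinates for an affine algebra near a smooth prime, and the number of coordinates.
-/

set_option autoImplicit false
universe u

open scoped TensorProduct

namespace L02.CAlg.BertiniV

variable {k : Type u} [Field k] {A : Type u} [CommRing A] [Algebra k A] {n : ℕ}

theorem span_D_range (x : Fin n → A)
    (hx : Function.Surjective (MvPolynomial.aeval x : MvPolynomial (Fin n) k →ₐ[k] A)) :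
    Submodule.span A (Set.range fun i => KaehlerDifferential.D k A (x i)) = ⊤ := by
  rw [eq_top_iff, ← KaehlerDifferential.span_range_derivation, Submodule.span_le]
  rintro _ ⟨y, rfl⟩
  obtain ⟨p, rfl⟩ := hx y
  set W := Submodule.span A (Set.range fun i => KaehlerDifferential.D k A (x i))
  induction p using MvPolynomial.induction_on with
  | C c =>
    rw [MvPolynomial.aeval_C, SetLike.mem_coe, Derivation.map_algebraMap]
    exact W.zero_mem
  | add p q hp hq =>
    rw [map_add, map_add]
    exact W.add_mem hp hq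
  | mul_X p i hp =>
    rw [map_mul, MvPolynomial.aeval_X, Derivation.leibniz]
    exact W.add_mem (W.smul_mem _ (Submodule.subset_span ⟨i, rfl⟩)) (W.smul_mem _ hp)

/-- Near a smooth prime some of the differentials of the generators form a basis. -/
theorem exists_chart (x : Fin n → A)
    (hx : Function.Surjective (MvPolynomial.aeval x : MvPolynomial (Fin n) k →ₐ[k] A))
    (P : Ideal A) [P.IsPrime] [Algebra.IsSmoothAt k P] :
    ∃ f : A, f ∉ P ∧ (∀ Q : Ideal A, ∀ (_ : Q.IsPrime), f ∉ Q → Algebra.IsSmoothAt k Q) ∧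
      ∃ (m : ℕ) (τ : Fin m → Fin n), ∀ f' : A, f ∣ f' →
        ∃ b : Module.Basis (Fin m) (Localization.Away f') (Ω[Localization.Away f'⁄k]),
          ∀ j, b j = KaehlerDifferential.D k (Localization.Away f') (algebraMap A (Localization.Away f') (x (τ j))) := by
  classical
  haveI : Algebra.FiniteType k A :=
    Algebra.FiniteType.of_surjective (MvPolynomial.aeval x : MvPolynomial (Fin n) k →ₐ[k] A) hx
  haveI : Algebra.FinitePresentation k A := Algebra.FinitePresentation.of_finiteType.mp inferInstance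
  haveI : IsNoetherianRing A := Algebra.FiniteType.isNoetherianRing k A
  obtain ⟨f₁, hf₁, hsm⟩ := Algebra.IsSmoothAt.exists_notMem_smooth k P
  let AP := Localization.AtPrime P
  let lP : Ω[A⁄k] →ₗ[A] Ω[AP⁄k] := KaehlerDifferential.map k k A AP
  let v : ULift.{u} (Fin n) → Ω[AP⁄k] := fun i => lP (KaehlerDifferential.D k A (x i.down))
  have hv : Submodule.span AP (Set.range v) = ⊤ := by
    have h := span_eq_top_of_isLocalizedModule AP P.primeCompl lP (span_D_range x hx)
    rw [← Set.range_comp] at h
    rw [← h]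
    congr 1
    ext w
    constructor
    · rintro ⟨i, rfl⟩; exact ⟨i.down, rfl⟩
    · rintro ⟨i, rfl⟩; exact ⟨⟨i⟩, rfl⟩
  haveI : Module.Finite AP (Ω[AP⁄k]) := ⟨⟨(Finset.univ.image v), by
    rw [Finset.coe_image, Finset.coe_univ, Set.image_univ, hv]⟩⟩
  haveI : Module.FinitePresentation AP (Ω[AP⁄k]) := Module.finitePresentation_of_projective _ _
  obtain ⟨κ, a, b, hb⟩ := Module.exists_basis_of_span_of_flat v hv
  haveI : Finite κ := Module.Finite.finite_basis b
  let τ : κ → Fin n := fun i => (a i).down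
  let e : (κ →₀ A) →ₗ[A] Ω[A⁄k] :=
    Finsupp.linearCombination A fun i : κ => KaehlerDifferential.D k A (x (τ i))
  let l₁ : (κ →₀ A) →ₗ[A] (κ →₀ AP) := Finsupp.mapRange.linearMap (Algebra.linearMap A AP)
  let eP : (κ →₀ AP) →ₗ[AP] Ω[AP⁄k] := IsLocalizedModule.mapExtendScalars P.primeCompl l₁ lP AP e
  have : eP = b.repr.symm := by
    ext i
    trans IsLocalizedModule.map P.primeCompl l₁ lP e <| l₁ <| Finsupp.single i 1
    · simp [eP, -IsLocalizedModule.map_apply, l₁]
    · simp [lP, e, hb, v, τ]
  have heP : Function.Bijective eP := this ▸ b.repr.symm.bijective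
  haveI : Module.FinitePresentation A (Ω[A⁄k]) := Module.finitePresentation_of_finite A _
  obtain ⟨g, hg, hgb⟩ := exists_bijective_map_powers P.primeCompl l₁ lP e heP
  haveI : Fintype κ := Fintype.ofFinite κ
  let eκ := Fintype.equivFin κ
  refine ⟨g * f₁, ‹P.IsPrime›.mul_notMem hg hf₁, fun Q hQ hfQ => ?_, _, fun j => τ (eκ.symm j), fun f' hf' => ?_⟩
  · haveI := hsm
    exact (Algebra.basicOpen_subset_smoothLocus_iff (R := k) (f := f₁)).mpr inferInstance
      (show (⟨Q, hQ⟩ : PrimeSpectrum A) ∈ PrimeSpectrum.basicOpen f₁ from fun h => hfQ (Q.mul_mem_left g h))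
  let C := Localization.Away f'
  let l₁c : (κ →₀ A) →ₗ[A] (κ →₀ C) := Finsupp.mapRange.linearMap (Algebra.linearMap A C)
  let l₂c : Ω[A⁄k] →ₗ[A] Ω[C⁄k] := KaehlerDifferential.map k k A C
  have h := hgb f' (dvd_trans (dvd_mul_right g f₁) hf')
  rw [← IsLocalizedModule.map_bijective_iff_localizedModuleMap_bijective l₁c l₂c] at h
  let ec : (κ →₀ C) →ₗ[C] Ω[C⁄k] := IsLocalizedModule.mapExtendScalars (Submonoid.powers f') l₁c l₂c C e
  refine ⟨(Module.Basis.ofRepr (LinearEquiv.ofBijective ec h).symm).reindex eκ, fun j => ?_⟩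
  rw [Module.Basis.reindex_apply]
  show ec (Finsupp.single (eκ.symm j) 1) = _
  trans IsLocalizedModule.map (Submonoid.powers f') l₁c l₂c e <| l₁c <| Finsupp.single (eκ.symm j) 1
  · simp [ec, -IsLocalizedModule.map_apply, l₁c]
  · rw [IsLocalizedModule.map_apply]
    simp [l₂c, e, C]

/-- The number of coordinates at a smooth prime is the dimension of the components through it. -/
theorem card_eq_of_minimal (C : Type u) [CommRing C] [Algebra k C] [Algebra.IsStandardSmooth k C] {m : ℕ}
    (b : Module.Basis (Fin m) C (Ω[C⁄k])) (f : A) [Algebra A C] [IsScalarTower k A C] [IsLocalization.Away f C]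
    [Algebra.FiniteType k A] (P₀ : Ideal A) (hP₀ : P₀ ∈ minimalPrimes A) (hf : f ∉ P₀) :
    ringKrullDim (A ⧸ P₀) = (m : WithBot ℕ∞) := by
  haveI hp : P₀.IsPrime := hP₀.1.1
  let Q₀ := P₀.map (algebraMap A C)
  have hdisj : Disjoint (Submonoid.powers f : Set A) (P₀ : Set A) :=
    (Ideal.disjoint_powers_iff_notMem_of_isPrime f).mpr hf
  haveI : Q₀.IsPrime := IsLocalization.isPrime_of_isPrime_disjoint (.powers f) C _ hp hdisj
  have hQ₀ : Q₀.comap (algebraMap A C) = P₀ :=
    IsLocalization.comap_map_of_isPrime_disjoint (.powers f) C hp hdisj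
  let B := Localization.AtPrime Q₀
  haveI : IsRegularLocalRing B := Groth.L21.Smooth.regular_of_isStandardSmooth k (algebraMap k C)
    (RingHom.isStandardSmooth_algebraMap.mpr inferInstance) Q₀
  haveI : IsDomain B := Groth.L01.isDomain_of_regular B
  haveI : (⊥ : Ideal B).IsPrime := Ideal.bot_prime
  have hbot : IsLocalRing.maximalIdeal B = ⊥ := by
    have hm : (IsLocalRing.maximalIdeal B).comap (algebraMap C B) = Q₀ :=
      IsLocalization.AtPrime.comap_maximalIdeal B Q₀
    have h1 : (⊥ : Ideal B).comap (algebraMap C B) ≤ Q₀ :=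
      (Ideal.comap_mono (bot_le : ⊥ ≤ IsLocalRing.maximalIdeal B)).trans hm.le
    have h2 : (⊥ : Ideal B).comap (algebraMap C B) = Q₀ := by
      refine le_antisymm h1 ?_
      have h3 : P₀ ≤ ((⊥ : Ideal B).comap (algebraMap C B)).comap (algebraMap A C) := by
        refine hP₀.2 ⟨inferInstance, bot_le⟩ ?_
        exact (Ideal.comap_mono h1).trans hQ₀.le
      exact Ideal.map_le_iff_le_comap.mpr h3
    have e1 : (IsLocalRing.maximalIdeal B).comap (algebraMap C B) = (⊥ : Ideal B).comap (algebraMap C B) :=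
      hm.trans h2.symm
    exact (IsLocalization.map_comap Q₀.primeCompl B (IsLocalRing.maximalIdeal B)).symm.trans
      ((congrArg (Ideal.map (algebraMap C B)) e1).trans (IsLocalization.map_comap Q₀.primeCompl B ⊥))
  letI : Field B := (IsLocalRing.isField_iff_maximalIdeal_eq.mpr hbot).toField
  haveI : Algebra.EssFiniteType C B := .of_isLocalization _ Q₀.primeCompl
  haveI : Algebra.EssFiniteType k B := .comp _ C _
  haveI : Algebra.FormallySmooth C B := Algebra.FormallySmooth.of_isLocalization Q₀.primeCompl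
  haveI : Algebra.FormallySmooth k B := Algebra.FormallySmooth.comp k C B
  obtain ⟨-, -, hlt, hcart⟩ := Groth.L03.CartierEq.cartier k B
  have hrank : Module.finrank B (Ω[B⁄k]) = m := by
    have bB := Module.Basis.ofIsLocalizedModule B Q₀.primeCompl (KaehlerDifferential.map k k C B) b
    rw [Module.finrank_eq_card_basis bB, Fintype.card_fin]
  have htr : Algebra.trdeg k B = m := by
    rw [hrank, Module.finrank_zero_of_subsingleton, Nat.cast_zero, sub_zero] at hcart
    obtain ⟨t, ht⟩ := Cardinal.lt_aleph0.mp hlt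
    rw [ht, Cardinal.toNat_natCast] at hcart
    rw [ht]
    exact_mod_cast hcart.symm
  have hker : RingHom.ker (algebraMap A B) = P₀ := by
    rw [IsScalarTower.algebraMap_eq A C B, ← RingHom.comap_ker, RingHom.ker_eq_comap_bot, ← hbot]
    exact (congrArg (Ideal.comap (algebraMap A C)) (IsLocalization.AtPrime.comap_maximalIdeal B Q₀)).trans hQ₀
  letI : Algebra (A ⧸ P₀) B :=
    (Ideal.Quotient.lift P₀ (algebraMap A B) fun z hz => by rwa [← RingHom.mem_ker, hker]).toAlgebra
  haveI : IsScalarTower k (A ⧸ P₀) B := IsScalarTower.of_algebraMap_eq fun c =>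
    (IsScalarTower.algebraMap_apply k A B c)
  have hinj : Function.Injective (algebraMap (A ⧸ P₀) B) := by
    rw [RingHom.injective_iff_ker_eq_bot, eq_bot_iff]
    intro z hz
    obtain ⟨z, rfl⟩ := Ideal.Quotient.mk_surjective z
    have hz' : algebraMap A B z = 0 := hz
    rw [← RingHom.mem_ker, hker] at hz'
    exact Ideal.mem_bot.mpr (Ideal.Quotient.eq_zero_iff_mem.mpr hz')
  haveI : FaithfulSMul (A ⧸ P₀) B := (faithfulSMul_iff_algebraMap_injective _ _).2 hinj
  haveI : IsFractionRing (A ⧸ P₀) B := by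
    refine IsFractionRing.of_field _ _ fun z => ?_
    obtain ⟨⟨c, s⟩, hz⟩ := IsLocalization.surj Q₀.primeCompl z
    obtain ⟨⟨a, u⟩, ha⟩ := IsLocalization.surj (Submonoid.powers f) c
    obtain ⟨⟨a', u'⟩, ha'⟩ := IsLocalization.surj (Submonoid.powers f) (s : C)
    refine ⟨Ideal.Quotient.mk P₀ (a * u'), Ideal.Quotient.mk P₀ (a' * u), ?_⟩
    show z = algebraMap A B (a * u') / algebraMap A B (a' * u)
    have hne : ∀ w : C, IsUnit w → algebraMap C B w ≠ 0 := fun w hw => (hw.map (algebraMap C B)).ne_zero
    have hu : algebraMap C B (algebraMap A C u) ≠ 0 := hne _ (IsLocalization.map_units C u)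
    have hu' : algebraMap C B (algebraMap A C u') ≠ 0 := hne _ (IsLocalization.map_units C u')
    have hs : algebraMap C B s ≠ 0 := (IsLocalization.map_units B s).ne_zero
    have eA : algebraMap A B a = algebraMap C B c * algebraMap C B (algebraMap A C u) := by
      rw [IsScalarTower.algebraMap_apply A C B, ← ha, map_mul]
    have eA' : algebraMap A B a' = algebraMap C B s * algebraMap C B (algebraMap A C u') := by
      rw [IsScalarTower.algebraMap_apply A C B, ← ha', map_mul]
    have hz' : z * algebraMap C B s = algebraMap C B c := hz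
    rw [map_mul, map_mul, eA, eA', ← hz', IsScalarTower.algebraMap_apply A C B u', IsScalarTower.algebraMap_apply A C B u]
    field_simp
  obtain ⟨d, -, -, -, hd, -⟩ := Groth.L22.AffineDim.exists_normalization k (A ⧸ P₀)
  have := Groth.L22.AffineDim.trdeg_fractionRing k (A ⧸ P₀) B hd
  rw [htr] at this
  rw [hd]
  exact_mod_cast this.symm

end L02.CAlg.BertiniV
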