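import Mathlib.RingTheory.Smooth.StandardSmoothOfFree
import Mathlib.RingTheory.Smooth.Kaehler

/-!
Cutting a smooth algebra by an element with a nowhere vanishing differential.
-/

set_option autoImplicit false
universe u

open scoped TensorProduct

namespace L02.CAlg.BertiniV

variable {k : Type u} [Field k] {C : Type u} [CommRing C] [Algebra k C] {m : ℕ}

theorem cut [Algebra.FormallySmooth k C] [Algebra.FiniteType k C] (y : Fin m → C)
    (b : Module.Basis (Fin m) C (Ω[C⁄k])) (hb : ∀ j, b j = KaehlerDifferential.D k C (y j)) (ℓ : C) (j₀ : Fin m)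
    (hu : IsUnit (b.repr (KaehlerDifferential.D k C ℓ) j₀)) (hne : Ideal.span {ℓ} ≠ ⊤) :
    Algebra.IsStandardSmoothOfRelativeDimension (m - 1) k (C ⧸ Ideal.span {ℓ}) := by
  classical
  let B := C ⧸ Ideal.span {ℓ}
  have hs : Function.Surjective (algebraMap C B) := Ideal.Quotient.mk_surjective
  haveI : Nontrivial B := Ideal.Quotient.nontrivial_iff.mpr hne
  obtain ⟨u, huu⟩ := hu
  let bB := Algebra.TensorProduct.basis B b
  let Φ := KaehlerDifferential.mapBaseChange k C B
  let w : B ⊗[C] Ω[C⁄k] := 1 ⊗ₜ KaehlerDifferential.D k C ℓ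
  have hℓ : algebraMap C B ℓ = 0 := Ideal.Quotient.eq_zero_iff_mem.mpr (Ideal.mem_span_singleton_self ℓ)
  have hΦb : ∀ j, Φ (bB j) = KaehlerDifferential.D k B (algebraMap C B (y j)) := fun j => by
    simp only [Φ, bB, Algebra.TensorProduct.basis_apply, hb, KaehlerDifferential.mapBaseChange_tmul,
      KaehlerDifferential.map_D, one_smul]
  have hΦw : Φ w = 0 := by
    simp only [Φ, w, KaehlerDifferential.mapBaseChange_tmul, KaehlerDifferential.map_D, one_smul, hℓ, map_zero]
  have hcw : bB.repr w j₀ = algebraMap C B u := by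
    simp only [w, bB, Algebra.TensorProduct.basis_repr_tmul, huu, one_smul, Finsupp.mapRange_apply]
  have hkc : ∀ z : RingHom.ker (algebraMap C B), ∃ c : C, (z : C) = c * ℓ ∧
      KaehlerDifferential.kerCotangentToTensor k C B (Ideal.toCotangent _ z) = algebraMap C B c • w := by
    intro z
    obtain ⟨c, hc⟩ := Ideal.mem_span_singleton'.mp (Ideal.Quotient.eq_zero_iff_mem.mp z.2)
    refine ⟨c, hc.symm, ?_⟩
    rw [KaehlerDifferential.kerCotangentToTensor_toCotangent, ← hc, Derivation.leibniz, TensorProduct.tmul_add,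
      TensorProduct.tmul_smul, TensorProduct.tmul_smul, algebraMap_smul]
    rw [show ℓ • ((1 : B) ⊗ₜ[C] KaehlerDifferential.D k C c) = 0 by
      rw [← algebraMap_smul B ℓ, hℓ, zero_smul], add_zero]
  let zℓ : RingHom.ker (algebraMap C B) := ⟨ℓ, hℓ⟩
  let ψ : C →ₗ[C] (RingHom.ker (algebraMap C B)).Cotangent :=
    LinearMap.toSpanSingleton C _ (Ideal.toCotangent _ zℓ)
  have hψ : (Ideal.span {ℓ} : Submodule C C) ≤ LinearMap.ker ψ := by
    intro z hz
    rw [LinearMap.mem_ker, LinearMap.toSpanSingleton_apply, ← map_smul, Ideal.toCotangent_eq_zero,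
      Submodule.coe_smul, smul_eq_mul, pow_two]
    refine Ideal.mul_mem_mul ?_ zℓ.2
    exact Ideal.Quotient.eq_zero_iff_mem.mpr hz
  let φ : B →ₗ[C] (RingHom.ker (algebraMap C B)).Cotangent := (Ideal.span {ℓ} : Submodule C C).liftQ ψ hψ
  let l : B ⊗[C] Ω[C⁄k] →ₗ[C] (RingHom.ker (algebraMap C B)).Cotangent :=
    φ ∘ₗ ((algebraMap C B (↑u⁻¹ : C) • bB.coord j₀).restrictScalars C)
  have hl : l ∘ₗ KaehlerDifferential.kerCotangentToTensor k C B = LinearMap.id := by
    ext z
    obtain ⟨z, rfl⟩ := Ideal.toCotangent_surjective _ z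
    obtain ⟨c, hc, hk⟩ := hkc z
    rw [LinearMap.comp_apply, hk, LinearMap.id_apply]
    simp only [l, LinearMap.comp_apply, LinearMap.coe_restrictScalars, LinearMap.smul_apply, map_smul,
      Module.Basis.coord_apply, hcw, smul_eq_mul]
    rw [← map_mul, ← map_mul, show c * ((↑u⁻¹ : C) * ↑u) = c by rw [Units.inv_mul, mul_one]]
    show φ (Submodule.Quotient.mk c) = _
    rw [Submodule.liftQ_apply, LinearMap.toSpanSingleton_apply, ← map_smul]
    congr 1
    exact Subtype.ext hc.symm
  haveI : Algebra.FormallySmooth k B := (Algebra.FormallySmooth.iff_split_injection hs).mpr ⟨l, hl⟩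
  haveI : Algebra.FiniteType k B := Algebra.FiniteType.of_surjective (IsScalarTower.toAlgHom k C B) hs
  haveI : Algebra.FinitePresentation k B := Algebra.FinitePresentation.of_finiteType.mp inferInstance
  haveI : Subsingleton (Algebra.H1Cotangent k B) := ((Algebra.formallySmooth_iff k B).mp inferInstance).2
  let fam : {j // j ≠ j₀} → Ω[B⁄k] := fun j => KaehlerDifferential.D k B (algebraMap C B (y j.1))
  have hspan : ⊤ ≤ Submodule.span B (Set.range fam) := by
    intro z _
    obtain ⟨X, rfl⟩ := KaehlerDifferential.mapBaseChange_surjective k C B hs z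
    have hmem : ∀ j, Φ (bB j) ∈ Submodule.span B (Set.range fam) := by
      intro j
      by_cases hj : j = j₀
      · subst hj
        have h1 : ∑ i, bB.repr w i • Φ (bB i) = 0 := by
          rw [← hΦw]
          conv_rhs => rw [← bB.sum_repr w]
          simp only [map_sum, map_smul]
        rw [Finset.sum_eq_add_sum_sdiff_singleton_of_mem (Finset.mem_univ j), hcw, add_eq_zero_iff_eq_neg] at h1
        have h2 : Φ (bB j) = algebraMap C B (↑u⁻¹ : C) • (algebraMap C B ↑u • Φ (bB j)) := by
          rw [smul_smul, ← map_mul, Units.inv_mul, map_one, one_smul]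
        rw [h2, h1]
        refine Submodule.smul_mem _ _ (Submodule.neg_mem _ (Submodule.sum_mem _ fun i hi => Submodule.smul_mem _ _ ?_))
        refine Submodule.subset_span ⟨⟨i, ?_⟩, (hΦb i).symm⟩
        simpa using hi
      · exact Submodule.subset_span ⟨⟨j, hj⟩, (hΦb j).symm⟩
    rw [← bB.sum_repr X, map_sum]
    exact Submodule.sum_mem _ fun j _ => by rw [map_smul]; exact Submodule.smul_mem _ _ (hmem j)
  have hli : LinearIndependent B fam := by
    rw [Fintype.linearIndependent_iff]
    intro g hg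
    let X : B ⊗[C] Ω[C⁄k] := ∑ j, g j • bB j.1
    have hX : Φ X = 0 := by
      rw [← hg, map_sum]
      exact Finset.sum_congr rfl fun j _ => by rw [map_smul, hΦb]
    obtain ⟨z, hz⟩ := (KaehlerDifferential.exact_kerCotangentToTensor_mapBaseChange k C B hs X).mp hX
    obtain ⟨z, rfl⟩ := Ideal.toCotangent_surjective _ z
    obtain ⟨c, -, hk⟩ := hkc z
    rw [hk] at hz
    have h0 : ∀ i, bB.repr X i = ∑ j : {j // j ≠ j₀}, g j * (Finsupp.single j.1 (1 : B)) i := fun i => by
      simp only [X, map_sum, map_smul, Module.Basis.repr_self, Finsupp.finsetSum_apply, Finsupp.smul_apply,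
        smul_eq_mul]
    have hc0 : algebraMap C B c = 0 := by
      have h1 := congrArg (fun v => bB.repr v j₀) hz
      simp only [map_smul, Finsupp.smul_apply, hcw, smul_eq_mul, h0] at h1
      rw [Finset.sum_eq_zero fun j _ => by rw [Finsupp.single_eq_of_ne (Ne.symm j.2), mul_zero]] at h1
      exact ((u.isUnit.map (algebraMap C B)).mul_left_eq_zero).mp h1
    rw [hc0, zero_smul] at hz
    intro j
    have h1 := h0 j.1
    rw [← hz, map_zero, Finsupp.zero_apply, Finset.sum_eq_single j] at h1
    · rw [Finsupp.single_eq_same, mul_one] at h1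
      exact h1.symm
    · intro i _ hij
      rw [Finsupp.single_eq_of_ne (fun h => hij (Subtype.ext h.symm)), mul_zero]
    · exact fun h => absurd (Finset.mem_univ j) h
  let bΩ : Module.Basis {j // j ≠ j₀} B (Ω[B⁄k]) := Module.Basis.mk hli hspan
  haveI : Algebra.IsStandardSmooth k B := Algebra.IsStandardSmooth.of_basis_kaehlerDifferential bΩ (by
    rintro _ ⟨j, rfl⟩
    exact ⟨_, (Module.Basis.mk_apply hli hspan j).symm⟩)
  rw [Algebra.IsStandardSmoothOfRelativeDimension.iff_of_isStandardSmooth, rank_eq_card_basis bΩ]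
  simp

end L02.CAlg.BertiniV
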