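import Groth.Agent.L22.AffineDim
import Mathlib.RingTheory.Kaehler.Basic
import Mathlib.RingTheory.AlgebraicIndependent.RankAndCardinality
import Mathlib.RingTheory.Ideal.MinimalPrime.Basic

/-!
A general affine linear form has no critical zero in a coordinate chart.
-/

set_option autoImplicit false
universe u

open MvPolynomial

namespace L02.CAlg.BertiniV

variable {k : Type u} [Field k] {n : ℕ}

theorem exists_critical_equation (C : Type u) [CommRing C] [Algebra k C] [Algebra.FiniteType k C] (y : Fin n → C)
    {m : ℕ} (τ : Fin m → Fin n) (b : Module.Basis (Fin m) C (Ω[C⁄k]))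
    (hb : ∀ j, b j = KaehlerDifferential.D k C (y (τ j))) (hdim : ringKrullDim C ≤ m) :
    ∃ R : MvPolynomial (Fin (n + 1)) k, R ≠ 0 ∧ ∀ a : Fin (n + 1) → k, ∀ P : Ideal C, P.IsPrime →
      algebraMap k C (a 0) + ∑ i, algebraMap k C (a i.succ) * y i ∈ P →
      (∀ j, b.repr (KaehlerDifferential.D k C (algebraMap k C (a 0) + ∑ i, algebraMap k C (a i.succ) * y i)) j ∈ P) →
      eval a R = 0 := by
  classical
  rcases subsingleton_or_nontrivial C with hC | hC
  · exact ⟨1, one_ne_zero, fun a P hP => absurd (Subsingleton.elim P ⊤) hP.ne_top⟩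
  haveI : IsNoetherianRing C := Algebra.FiniteType.isNoetherianRing k C
  have hτ : Function.Injective τ := fun i j h => b.injective (by rw [hb, hb, h])
  let c : Fin n → Fin m → C := fun i j => b.repr (KaehlerDifferential.D k C (y i)) j
  have hc : ∀ l j, c (τ l) j = if l = j then 1 else 0 := fun l j => by
    simp only [c, ← hb, Module.Basis.repr_self, Finsupp.single_apply]
  let J := {i : Fin n // i ∉ Set.range τ}
  have hJ : Nat.card J = n - m := by
    rw [Nat.card_eq_fintype_card, Fintype.card_subtype_compl, Set.card_range_of_injective hτ]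
    simp
  let w : Fin n → MvPolynomial J C := fun i =>
    if h : i ∈ Set.range τ then -∑ l : J, X l * MvPolynomial.C (c l.1 h.choose) else X ⟨i, h⟩
  have hmn : m ≤ n := by simpa using Fintype.card_le_of_injective τ hτ
  let p : Fin (n + 1) → MvPolynomial J C := Fin.cons (-∑ i, w i * MvPolynomial.C (y i)) w
  have hrel : ∃ R : MvPolynomial (Fin (n + 1)) k, R ≠ 0 ∧ aeval p R = 0 := by
    by_contra hcon
    push Not at hcon
    have hinj : Function.Injective (aeval p : MvPolynomial (Fin (n + 1)) k →ₐ[k] MvPolynomial J C) :=
      (injective_iff_map_eq_zero _).2 fun R hR => by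
        by_contra h0; exact hcon R h0 hR
    obtain ⟨Q, hQ, hQc⟩ := Ideal.exists_comap_eq_of_mem_minimalPrimes_of_injective
      (f := (aeval p : MvPolynomial (Fin (n + 1)) k →ₐ[k] MvPolynomial J C).toRingHom) hinj ⊥
      ⟨⟨Ideal.bot_prime, le_rfl⟩, fun _ _ _ => bot_le⟩
    let D := MvPolynomial J C ⧸ Q
    let π : MvPolynomial (Fin (n + 1)) k →ₐ[k] D := (Ideal.Quotient.mkₐ k Q).comp (aeval p)
    have hπ : Function.Injective π := by
      rw [injective_iff_map_eq_zero]
      intro R hR
      have h' : Ideal.Quotient.mk Q (aeval p R) = 0 := hR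
      have h0 : R ∈ Q.comap (aeval p : MvPolynomial (Fin (n + 1)) k →ₐ[k] MvPolynomial J C).toRingHom :=
        Ideal.mem_comap.mpr (Ideal.Quotient.eq_zero_iff_mem.mp h')
      rw [hQc] at h0
      exact Ideal.mem_bot.mp h0
    haveI : Algebra.FiniteType C (MvPolynomial J C) := inferInstance
    haveI : Algebra.FiniteType k (MvPolynomial J C) := Algebra.FiniteType.trans (S := C) inferInstance inferInstance
    haveI : Algebra.FiniteType k D := Algebra.FiniteType.of_surjective (Ideal.Quotient.mkₐ k Q) Ideal.Quotient.mk_surjective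
    obtain ⟨d, -, -, -, hd, htr⟩ := Groth.L22.AffineDim.exists_normalization k D
    have h1 : (n + 1 : ℕ) ≤ d := by
      have hai : AlgebraicIndependent k fun i => π (X i) := by
        rw [algebraicIndependent_iff_injective_aeval]
        rw [show aeval (fun i => π (X i)) = π from algHom_ext fun i => by simp]
        exact hπ
      have := hai.lift_cardinalMk_le_trdeg
      rw [htr, Cardinal.mk_fintype, Fintype.card_fin] at this
      simpa using this
    have h2 : ringKrullDim D ≤ ((m + (n - m) : ℕ) : WithBot ℕ∞) := by
      refine (ringKrullDim_le_of_surjective (Ideal.Quotient.mk Q) Ideal.Quotient.mk_surjective).trans ?_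
      rw [MvPolynomial.ringKrullDim_of_isNoetherianRing, hJ, Nat.cast_add]
      exact add_le_add hdim le_rfl
    rw [hd, Nat.add_sub_of_le hmn] at h2
    have : d ≤ n := by exact_mod_cast h2
    omega
  obtain ⟨R, hR0, hR⟩ := hrel
  refine ⟨R, hR0, fun a P hP hℓ hcr => ?_⟩
  haveI := hP
  let κ := C ⧸ P
  let ev : MvPolynomial J C →+* κ := eval₂Hom (Ideal.Quotient.mk P) fun l => algebraMap k κ (a l.1.succ)
  have hD : ∀ j, b.repr (KaehlerDifferential.D k C (algebraMap k C (a 0) + ∑ i, algebraMap k C (a i.succ) * y i)) j =
      ∑ i, algebraMap k C (a i.succ) * c i j := fun j => by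
    simp only [map_add, map_sum, Derivation.map_algebraMap, Derivation.leibniz, smul_zero, zero_add,
      add_zero, map_zero, Finsupp.coe_finsetSum, Finset.sum_apply, map_smul, Finsupp.smul_apply,
      smul_eq_mul, c, Finsupp.zero_apply]
  have hw : ∀ i, ev (w i) = algebraMap k κ (a i.succ) := by
    intro i
    by_cases h : i ∈ Set.range τ
    · simp only [w, dif_pos h]
      have hj := h.choose_spec
      generalize h.choose = j at hj
      subst hj
      have h0 : (Ideal.Quotient.mk P) (∑ i, algebraMap k C (a i.succ) * c i j) = 0 := by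
        rw [Ideal.Quotient.eq_zero_iff_mem, ← hD]
        exact hcr j
      have hS : ∑ i ∈ Finset.univ.filter (fun i => i ∉ Set.range τ), algebraMap k C (a i.succ) * c i j =
          ∑ l : J, algebraMap k C (a l.1.succ) * c l.1 j := Finset.sum_subtype _ (fun i => by simp) _
      rw [← Finset.sum_filter_add_sum_filter_not Finset.univ (fun i => i ∈ Set.range τ), map_add, hS,
        show Finset.univ.filter (fun i => i ∈ Set.range τ) = Finset.univ.image τ by ext; simp,
        Finset.sum_image (fun x _ y _ hxy => hτ hxy)] at h0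
      simp only [hc, mul_ite, mul_one, mul_zero, Finset.sum_ite_eq', Finset.mem_univ, if_true] at h0
      rw [map_neg, map_sum, neg_eq_iff_add_eq_zero]
      rw [← h0, add_comm]
      congr 1
      rw [map_sum]
      refine Finset.sum_congr (by ext; simp) fun l _ => ?_
      simp [ev, κ, mul_comm]
    · simp only [w, dif_neg h]
      exact eval₂Hom_X' _ _ _
  have hp : ∀ o, ev (p o) = algebraMap k κ (a o) := by
    intro o
    cases o using Fin.cases with
    | zero =>
      simp only [p, Fin.cons_zero, map_neg, map_sum, map_mul, hw]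
      rw [neg_eq_iff_add_eq_zero, add_comm]
      have h0 : Ideal.Quotient.mk P (algebraMap k C (a 0) + ∑ i, algebraMap k C (a i.succ) * y i) = 0 :=
        Ideal.Quotient.eq_zero_iff_mem.mpr hℓ
      rw [map_add, map_sum] at h0
      simp only [map_mul, Ideal.Quotient.mk_algebraMap] at h0
      simpa [ev] using h0
    | succ i => simp [p, hw]
  have key : ∀ S : MvPolynomial (Fin (n + 1)) k, ev (aeval p S) = algebraMap k κ (eval a S) := fun S => by
    induction S using MvPolynomial.induction_on with
    | C z =>
      rw [aeval_C, eval_C, IsScalarTower.algebraMap_apply k C (MvPolynomial J C), algebraMap_eq]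
      simp only [ev, eval₂Hom_C]
      rfl
    | add f f' hf hf' => simp only [map_add, hf, hf']
    | mul_X f o hf => simp only [map_mul, hf, aeval_X, eval_X, hp]
  have h0 := key R
  rw [hR, map_zero] at h0
  exact (algebraMap k κ).injective (h0.symm.trans (map_zero _).symm)

end L02.CAlg.BertiniV
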