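import Groth.Agent.L02.CAlg.Bertini.Chart
import Groth.Agent.L02.CAlg.Bertini.Cut
import Groth.Agent.L02.CAlg.Bertini.Generic
import Mathlib.RingTheory.RingHom.StandardSmooth
import Mathlib.RingTheory.Localization.Ideal
import Mathlib.AlgebraicGeometry.Morphisms.Smooth

/-!
A general hyperplane section of an affine variety is smooth at smooth points.
-/

set_option autoImplicit false
universe u

open AlgebraicGeometry CategoryTheory

namespace L02.CAlg.BertiniV

variable {k : Type u} [Field k] {A : Type u} [CommRing A] [Algebra k A] {n r : ℕ}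

theorem ringKrullDim_le_of_minimalPrimes (hdim : ∀ P ∈ minimalPrimes A, ringKrullDim (A ⧸ P) = r) :
    ringKrullDim A ≤ r := by
  refine iSup_le fun l => ?_
  haveI := l.head.2
  obtain ⟨P₀, hP₀, hle⟩ := Ideal.exists_minimalPrimes_le (J := l.head.asIdeal) (bot_le : (⊥ : Ideal A) ≤ _)
  have hge : ∀ i, P₀ ≤ (l i).asIdeal := fun i => hle.trans (l.monotone (Fin.zero_le i))
  have hpr : ∀ i, ((l i).asIdeal.map (Ideal.Quotient.mk P₀)).IsPrime := fun i =>
    Ideal.map_isPrime_of_surjective Ideal.Quotient.mk_surjective (by rw [Ideal.mk_ker]; exact hge i)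
  let l' : LTSeries (PrimeSpectrum (A ⧸ P₀)) := LTSeries.mk l.length (fun i => ⟨_, hpr i⟩) fun i j hij => by
    refine lt_of_le_of_ne (Ideal.map_mono (l.monotone hij.le)) fun h => (l.strictMono hij).ne (PrimeSpectrum.ext ?_)
    have h' := congrArg (fun z : PrimeSpectrum (A ⧸ P₀) => z.asIdeal.comap (Ideal.Quotient.mk P₀)) h
    simp only [Ideal.comap_map_of_surjective _ Ideal.Quotient.mk_surjective, ← RingHom.ker_eq_comap_bot,
      Ideal.mk_ker, sup_eq_left.mpr (hge i), sup_eq_left.mpr (hge j)] at h'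
    exact h'
  rw [← hdim P₀ hP₀]
  exact le_iSup (fun l : LTSeries (PrimeSpectrum (A ⧸ P₀)) => (l.length : WithBot ℕ∞)) l'

theorem ringKrullDim_away_le (f : A) : ringKrullDim (Localization.Away f) ≤ ringKrullDim A :=
  Order.krullDim_le_of_strictMono (PrimeSpectrum.comap (algebraMap A (Localization.Away f))) fun Q Q' h =>
    lt_of_le_of_ne (Ideal.comap_mono h.le)
      fun e => h.ne (PrimeSpectrum.localization_comap_injective _ (Submonoid.powers f) e)

/-- The coordinates data of a chart. -/
def IsChart (x : Fin n → A) (m : ℕ) (τ : Fin m → Fin n) (f : A) : Prop :=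
  (∀ Q : Ideal A, ∀ (_ : Q.IsPrime), f ∉ Q → Algebra.IsSmoothAt k Q) ∧ ∀ f' : A, f ∣ f' →
    ∃ b : Module.Basis (Fin m) (Localization.Away f') (Ω[Localization.Away f'⁄k]),
      ∀ j, b j = KaehlerDifferential.D k (Localization.Away f') (algebraMap A (Localization.Away f') (x (τ j)))

theorem smooth_away [Algebra.FinitePresentation k A] {f : A}
    (hf : ∀ Q : Ideal A, ∀ (_ : Q.IsPrime), f ∉ Q → Algebra.IsSmoothAt k Q) :
    Algebra.Smooth k (Localization.Away f) :=
  Algebra.basicOpen_subset_smoothLocus_iff_smooth.mp fun Q hQ => hf Q.asIdeal Q.2 hQ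

variable (x : Fin n → A)

/-- The affine linear form. -/
noncomputable def linForm (a : Fin (n + 1) → k) : A :=
  algebraMap k A (a 0) + ∑ i : Fin n, algebraMap k A (a i.succ) * x i

theorem map_linForm {C : Type u} [CommRing C] [Algebra k C] [Algebra A C] [IsScalarTower k A C] (a : Fin (n + 1) → k) :
    algebraMap A C (linForm x a) = algebraMap k C (a 0) + ∑ i : Fin n, algebraMap k C (a i.succ) * algebraMap A C (x i) := by
  simp only [linForm, map_add, map_sum, map_mul, ← IsScalarTower.algebraMap_apply]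

theorem exists_equation (hx : Function.Surjective (MvPolynomial.aeval x : MvPolynomial (Fin n) k →ₐ[k] A))
    (hdim : ∀ P ∈ minimalPrimes A, ringKrullDim (A ⧸ P) = r) {m : ℕ} {τ : Fin m → Fin n} {f : A}
    (hf : IsChart (k := k) x m τ f) :
    ∃ R : MvPolynomial (Fin (n + 1)) k, R ≠ 0 ∧ ∀ a : Fin (n + 1) → k, MvPolynomial.eval a R ≠ 0 →
      ∀ P : Ideal A, P.IsPrime → f ∉ P → linForm x a ∈ P →
        m = r ∧ ∃ (f' : A) (b : Module.Basis (Fin m) (Localization.Away f') (Ω[Localization.Away f'⁄k])) (j : Fin m),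
          f' ∉ P ∧ f ∣ f' ∧
          (∀ l, b l = KaehlerDifferential.D k (Localization.Away f') (algebraMap A (Localization.Away f') (x (τ l)))) ∧
          IsUnit (b.repr (KaehlerDifferential.D k (Localization.Away f') (algebraMap A (Localization.Away f') (linForm x a))) j) := by
  classical
  haveI : Algebra.FiniteType k A :=
    Algebra.FiniteType.of_surjective (MvPolynomial.aeval x : MvPolynomial (Fin n) k →ₐ[k] A) hx
  haveI : Algebra.FinitePresentation k A := Algebra.FinitePresentation.of_finiteType.mp inferInstance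
  obtain ⟨hsm, hb⟩ := hf
  obtain ⟨b, hb0⟩ := hb f dvd_rfl
  by_cases hnil : IsNilpotent f
  · exact ⟨1, one_ne_zero, fun a _ P hP hfP _ =>
      absurd (nilradical_le_prime P (mem_nilradical.mpr hnil)) hfP⟩
  obtain ⟨P₁, hP₁, hfP₁⟩ : ∃ P : Ideal A, P.IsPrime ∧ f ∉ P := by
    by_contra hc
    push Not at hc
    exact hnil (mem_nilradical.mp (by rw [nilradical_eq_sInf, Submodule.mem_sInf]; exact fun P hP => hc P hP))
  obtain ⟨P₀, hP₀, hle⟩ := Ideal.exists_minimalPrimes_le (J := P₁) (bot_le : (⊥ : Ideal A) ≤ _)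
  let C := Localization.Away f
  haveI hCsm : Algebra.Smooth k C := smooth_away hsm
  haveI : Subsingleton (Algebra.H1Cotangent k C) := ((Algebra.formallySmooth_iff k C).mp inferInstance).2
  haveI : Algebra.IsStandardSmooth k C := Algebra.IsStandardSmooth.of_basis_kaehlerDifferential b (by
    rintro _ ⟨j, rfl⟩
    exact ⟨_, (hb0 j).symm⟩)
  have hm : m = r := by
    have h := card_eq_of_minimal C b f P₀ hP₀ (fun h => hfP₁ (hle h))
    rw [hdim P₀ hP₀] at h
    exact_mod_cast h.symm
  have hdimC : ringKrullDim C ≤ m := hm ▸ (ringKrullDim_away_le f).trans (ringKrullDim_le_of_minimalPrimes hdim)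
  obtain ⟨R, hR0, hR⟩ := exists_critical_equation C (fun i => algebraMap A C (x i)) τ b hb0 hdimC
  refine ⟨R, hR0, fun a ha P hP hfP hℓ => ⟨hm, ?_⟩⟩
  have hdisj : Disjoint (Submonoid.powers f : Set A) (P : Set A) :=
    (Ideal.disjoint_powers_iff_notMem_of_isPrime f).mpr hfP
  haveI hP' : (P.map (algebraMap A C)).IsPrime :=
    IsLocalization.isPrime_of_isPrime_disjoint (.powers f) C _ hP hdisj
  have hℓ' : algebraMap A C (linForm x a) ∈ P.map (algebraMap A C) := Ideal.mem_map_of_mem _ hℓ
  obtain ⟨j, hj⟩ : ∃ j, b.repr (KaehlerDifferential.D k C (algebraMap A C (linForm x a))) j ∉ P.map (algebraMap A C) := by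
    by_contra hc
    push Not at hc
    refine ha (hR a _ hP' ?_ fun j => ?_)
    · rw [← map_linForm]; exact hℓ'
    · rw [← map_linForm]; exact hc j
  obtain ⟨⟨num, u⟩, hnum⟩ := IsLocalization.surj (Submonoid.powers f)
    (b.repr (KaehlerDifferential.D k C (algebraMap A C (linForm x a))) j)
  have hnumP : num ∉ P := fun h => hj (by
    have h' : algebraMap A C num ∈ P.map (algebraMap A C) := Ideal.mem_map_of_mem _ h
    rw [← hnum] at h'
    exact (hP'.mem_or_mem h').resolve_right
      fun h'' => hP'.ne_top (Ideal.eq_top_of_isUnit_mem _ h'' (IsLocalization.map_units C u)))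
  let f' := f * num
  obtain ⟨b', hb'⟩ := hb f' (dvd_mul_right f num)
  let C' := Localization.Away f'
  have hfu : IsUnit (algebraMap A C' f) :=
    isUnit_of_dvd_unit (map_dvd _ (dvd_mul_right f num)) (IsLocalization.Away.algebraMap_isUnit f')
  have hnu : IsUnit (algebraMap A C' num) :=
    isUnit_of_dvd_unit (map_dvd _ (dvd_mul_left num f)) (IsLocalization.Away.algebraMap_isUnit f')
  letI : Algebra C C' := (IsLocalization.Away.lift f hfu).toAlgebra
  haveI : IsScalarTower A C C' := IsScalarTower.of_algebraMap_eq fun z => (IsLocalization.Away.lift_eq f hfu z).symm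
  haveI : IsScalarTower k C C' := IsScalarTower.of_algebraMap_eq fun z => by
    rw [IsScalarTower.algebraMap_apply k A C, ← IsScalarTower.algebraMap_apply A C C', ← IsScalarTower.algebraMap_apply]
  refine ⟨f', b', j, ‹P.IsPrime›.mul_notMem hfP hnumP, dvd_mul_right f num, hb', ?_⟩
  have key : ∀ l, b'.repr (KaehlerDifferential.D k C' (algebraMap A C' (linForm x a))) l =
      algebraMap C C' (b.repr (KaehlerDifferential.D k C (algebraMap A C (linForm x a))) l) := by
    have h1 := congrArg (KaehlerDifferential.map k k C C') (b.sum_repr (KaehlerDifferential.D k C (algebraMap A C (linForm x a))))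
    rw [map_sum, KaehlerDifferential.map_D, ← IsScalarTower.algebraMap_apply] at h1
    intro l
    rw [← h1]
    have h2 : ∀ i, KaehlerDifferential.map k k C C' (b i) = b' i := fun i => by
      rw [hb0, KaehlerDifferential.map_D, ← IsScalarTower.algebraMap_apply, hb']
    simp only [map_smul, h2]
    simp only [← algebraMap_smul C' (b.repr _ _), b'.repr_sum_self]
    rfl
  rw [key]
  have hun : IsUnit (algebraMap C C' (algebraMap A C num)) := by
    rw [← IsScalarTower.algebraMap_apply]; exact hnu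
  rw [← hnum, map_mul] at hun
  exact isUnit_of_mul_isUnit_left hun

theorem bertini (hx : Function.Surjective (MvPolynomial.aeval x : MvPolynomial (Fin n) k →ₐ[k] A))
    (hdim : ∀ P ∈ minimalPrimes A, ringKrullDim (A ⧸ P) = r) :
    ∃ g : MvPolynomial (Fin (n + 1)) k, g ≠ 0 ∧
      ∀ a : Fin (n + 1) → k, MvPolynomial.eval a g ≠ 0 →
        ∀ (q : Ideal (A ⧸ Ideal.span {linForm x a})) (_ : q.IsPrime),
          (∃ f : A, f ∉ q.comap (Ideal.Quotient.mk _) ∧
            Smooth (Spec.map (CommRingCat.ofHom (algebraMap k (Localization.Away f))))) →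
          ∃ f : A ⧸ Ideal.span {linForm x a},
            f ∉ q ∧ SmoothOfRelativeDimension (r - 1)
              (Spec.map (CommRingCat.ofHom (algebraMap k (Localization.Away f)))) := by
  classical
  haveI : Algebra.FiniteType k A :=
    Algebra.FiniteType.of_surjective (MvPolynomial.aeval x : MvPolynomial (Fin n) k →ₐ[k] A) hx
  haveI : Algebra.FinitePresentation k A := Algebra.FinitePresentation.of_finiteType.mp inferInstance
  haveI : IsNoetherianRing A := Algebra.FiniteType.isNoetherianRing k A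
  let G : Set A := {f | ∃ (m : ℕ) (τ : Fin m → Fin n), IsChart (k := k) x m τ f}
  obtain ⟨s, hsG, hs⟩ := (Submodule.fg_span_iff_fg_span_finset_subset G).mp (IsNoetherian.noetherian (Submodule.span A G))
  have hR : ∀ f : s, ∃ R : MvPolynomial (Fin (n + 1)) k, R ≠ 0 ∧ ∀ a : Fin (n + 1) → k, MvPolynomial.eval a R ≠ 0 →
      ∀ P : Ideal A, P.IsPrime → (f : A) ∉ P → linForm x a ∈ P →
        ∃ (f' : A) (τ : Fin r → Fin n) (b : Module.Basis (Fin r) (Localization.Away f') (Ω[Localization.Away f'⁄k])) (j : Fin r),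
          f' ∉ P ∧ (f : A) ∣ f' ∧
          (∀ l, b l = KaehlerDifferential.D k (Localization.Away f') (algebraMap A (Localization.Away f') (x (τ l)))) ∧
          IsUnit (b.repr (KaehlerDifferential.D k (Localization.Away f') (algebraMap A (Localization.Away f') (linForm x a))) j) := by
    intro f
    obtain ⟨m, τ, hc⟩ := hsG f.2
    obtain ⟨R, hR0, hR⟩ := exists_equation x hx hdim hc
    refine ⟨R, hR0, fun a ha P hP hf hℓ => ?_⟩
    obtain ⟨hm, f', b, j, h1, h2, h3, h4⟩ := hR a ha P hP hf hℓ
    subst hm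
    exact ⟨f', τ, b, j, h1, h2, h3, h4⟩
  choose R hR0 hR using hR
  refine ⟨∏ f, R f, Finset.prod_ne_zero_iff.2 fun f _ => hR0 f, fun a ha q hq hsm => ?_⟩
  rw [map_prod, Finset.prod_ne_zero_iff] at ha
  haveI := hq
  let I := Ideal.span {linForm x a}
  let P : Ideal A := q.comap (Ideal.Quotient.mk (Ideal.span {linForm x a}))
  haveI hP : P.IsPrime := Ideal.comap_isPrime _ _
  have hℓ : linForm x a ∈ P := by
    show Ideal.Quotient.mk (Ideal.span {linForm x a}) (linForm x a) ∈ q
    rw [Ideal.Quotient.eq_zero_iff_mem.mpr (Ideal.mem_span_singleton_self _)]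
    exact q.zero_mem
  obtain ⟨f₀, hf₀, hsm₀⟩ := hsm
  rw [HasRingHomProperty.Spec_iff (P := @Smooth), CommRingCat.hom_ofHom, RingHom.smooth_algebraMap] at hsm₀
  haveI : Algebra.IsSmoothAt k P := Algebra.basicOpen_subset_smoothLocus_iff_smooth.mpr hsm₀
    (show (⟨P, hP⟩ : PrimeSpectrum A) ∈ PrimeSpectrum.basicOpen f₀ from hf₀)
  obtain ⟨f₁, hf₁, hf₁s, m₁, τ₁, hf₁b⟩ := exists_chart x hx P
  obtain ⟨f, hf, hfP⟩ : ∃ f ∈ s, f ∉ P := by
    by_contra hc
    push Not at hc
    exact hf₁ ((hs ▸ Ideal.span_le.mpr hc : Submodule.span A G ≤ P) (Submodule.subset_span ⟨m₁, τ₁, hf₁s, hf₁b⟩))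
  obtain ⟨f', τ, b, j, hf'P, hdvd, hb, hu⟩ := hR ⟨f, hf⟩ a (ha _ (Finset.mem_univ _)) P hP hfP hℓ
  obtain ⟨m₂, τ₂, hs₂, -⟩ := hsG hf
  let C' := Localization.Away f'
  haveI : Algebra.Smooth k C' :=
    smooth_away fun Q hQ h => hs₂ Q hQ fun hfQ => h (Ideal.mem_of_dvd _ hdvd hfQ)
  have hdisj : Disjoint (Submonoid.powers f' : Set A) (P : Set A) :=
    (Ideal.disjoint_powers_iff_notMem_of_isPrime f').mpr hf'P
  haveI hP' : (P.map (algebraMap A C')).IsPrime :=
    IsLocalization.isPrime_of_isPrime_disjoint (.powers f') C' _ hP hdisj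
  have hI' : Ideal.span {algebraMap A C' (linForm x a)} = I.map (algebraMap A C') := by
    rw [Ideal.map_span, Set.image_singleton]
  have hne : Ideal.span {algebraMap A C' (linForm x a)} ≠ ⊤ := fun h => hP'.ne_top (top_le_iff.mp
    (h ▸ Ideal.span_le.mpr (Set.singleton_subset_iff.mpr (Ideal.mem_map_of_mem _ hℓ))))
  have hcut := cut (fun l => algebraMap A C' (x (τ l))) b hb _ j hu hne
  refine ⟨Ideal.Quotient.mk I f', hf'P, ?_⟩
  rw [HasRingHomProperty.Spec_iff (P := @SmoothOfRelativeDimension (r - 1)), CommRingCat.hom_ofHom]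
  refine RingHom.locally_of RingHom.isStandardSmoothOfRelativeDimension_respectsIso _ ?_
  let S := C' ⧸ I.map (algebraMap A C')
  have hS : RingHom.IsStandardSmoothOfRelativeDimension (r - 1) (algebraMap k S) := by
    have h := (RingHom.isStandardSmoothOfRelativeDimension_algebraMap _).mpr hcut
    have h' := RingHom.isStandardSmoothOfRelativeDimension_respectsIso.1 _ (Ideal.quotEquivOfEq hI') h
    convert h' using 1
    exact RingHom.ext fun c => rfl
  haveI : IsLocalization.Away (Ideal.Quotient.mk I f') S := by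
    have h : IsLocalization (Algebra.algebraMapSubmonoid (A ⧸ I) (Submonoid.powers f')) S := inferInstance
    rwa [Algebra.algebraMapSubmonoid_powers] at h
  let e := IsLocalization.algEquiv (Submonoid.powers (Ideal.Quotient.mk I f')) S
    (Localization.Away (Ideal.Quotient.mk I f'))
  have h' := RingHom.isStandardSmoothOfRelativeDimension_respectsIso.1 _ e.toRingEquiv hS
  have e' : e.toRingEquiv.toRingHom.comp (algebraMap k S) = algebraMap k (Localization.Away (Ideal.Quotient.mk I f')) := by
    refine RingHom.ext fun c => ?_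
    show e (algebraMap k S c) = _
    rw [show algebraMap k S c = algebraMap (A ⧸ I) S (algebraMap k (A ⧸ I) c) from rfl, AlgEquiv.commutes]
    rfl
  exact e' ▸ h'

end L02.CAlg.BertiniV
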